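import Groth.Agent.H14QCoh.BCMaps
import Mathlib.LinearAlgebra.TensorProduct.Pi
import Mathlib.RingTheory.Flat.Basic

/-!
# Flat base change of equalisers and finite products
-/

set_option autoImplicit false
set_option linter.style.haveILetI false

universe u

open TensorProduct Groth.Agent.H14QCoh

namespace Groth.Agent.H13Desc.EffD

variable {A B : Type u} [CommRing A] [CommRing B] {σ : A →+* B}

/-- Finite products of base changes. -/
theorem isBC_pi {κ : Type u} [Finite κ] {P P' : κ → Type u} [∀ k, AddCommGroup (P k)] [∀ k, Module A (P k)]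
    [∀ k, AddCommGroup (P' k)] [∀ k, Module B (P' k)] {φ : ∀ k, P k →+ P' k} (h : ∀ k, IsBC σ (φ k)) :
    IsBC σ (Pi.addMonoidHom fun k => (φ k).comp (Pi.evalAddMonoidHom P k) :
      (∀ k, P k) →+ ∀ k, P' k) := by
  classical
  haveI := Fintype.ofFinite κ
  letI := σ.toAlgebra
  choose e he using fun k => (h k).exists_equiv
  refine isBC_of_tensor (fun a m => funext fun k => (h k).smul a (m k))
    ⟨((TensorProduct.piRight A B B P).trans (LinearEquiv.piCongrRight e)).toLinearMap,
      LinearEquiv.bijective _, fun m => funext fun k => ?_⟩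
  exact (he k 1 (m k)).trans (one_smul B _)

/-- A flat base change of an equaliser. -/
theorem isBC_of_exact {M P R M' P' R' : Type u} [AddCommGroup M] [Module A M] [AddCommGroup P] [Module A P]
    [AddCommGroup R] [Module A R] [AddCommGroup M'] [Module B M'] [AddCommGroup P'] [Module B P']
    [AddCommGroup R'] [Module B R'] (hσ : σ.Flat) {φ : M →+ M'}
    (smul : ∀ (a : A) (m : M), φ (a • m) = σ a • φ m) {φP : P →+ P'} (hP : IsBC σ φP) {φR : R →+ R'}
    (hR : IsBC σ φR) (i : M →ₗ[A] P) (d : P →ₗ[A] R) (i' : M' →ₗ[B] P') (d' : P' →ₗ[B] R')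
    (hi : Function.Injective i) (hex : Function.Exact i d) (hi' : Function.Injective i')
    (hz : ∀ m, d' (i' m) = 0) (hiφ : ∀ m, i' (φ m) = φP (i m)) (hdφ : ∀ p, d' (φP p) = φR (d p)) :
    IsBC σ φ := by
  letI := σ.toAlgebra
  haveI : Module.Flat A B := hσ
  letI := Module.compHom M' σ
  haveI : IsScalarTower A B M' := .of_algebraMap_smul fun _ _ => rfl
  let F : M →ₗ[A] M' := { toFun := φ, map_add' := map_add φ, map_smul' := smul }
  let e := F.liftBaseChange B
  obtain ⟨eP, heP⟩ := hP.exists_equiv
  obtain ⟨eR, heR⟩ := hR.exists_equiv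
  have h1 : ∀ z, i' (e z) = eP (i.lTensor B z) := by
    intro z
    induction z using TensorProduct.induction_on with
    | zero => simp
    | add x y hx hy => simp only [map_add, hx, hy]
    | tmul b m =>
      rw [LinearMap.lTensor_tmul, heP, LinearMap.liftBaseChange_tmul, map_smul]
      exact congrArg _ (hiφ m)
  have h2 : ∀ z, d' (eP z) = eR (d.lTensor B z) := by
    intro z
    induction z using TensorProduct.induction_on with
    | zero => simp
    | add x y hx hy => simp only [map_add, hx, hy]
    | tmul b p => rw [LinearMap.lTensor_tmul, heR, heP, map_smul, hdφ]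
  have hinj : Function.Injective (i.lTensor B) := Module.Flat.lTensor_preserves_injective_linearMap _ hi
  have hexB : Function.Exact (i.lTensor B) (d.lTensor B) := Module.Flat.lTensor_exact B hex
  refine isBC_of_tensor smul ⟨e, ⟨fun x y h => hinj (eP.injective ?_), fun y => ?_⟩, fun m => ?_⟩
  · rw [← h1, ← h1, h]
  · obtain ⟨w, hw⟩ := (hexB (eP.symm (i' y))).1 (eR.injective (by
      rw [← h2, LinearEquiv.apply_symm_apply, hz, map_zero]))
    exact ⟨w, hi' (by rw [h1, hw, LinearEquiv.apply_symm_apply])⟩
  · exact (LinearMap.liftBaseChange_tmul ..).trans (one_smul B (φ m))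

end Groth.Agent.H13Desc.EffD
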