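import Groth.Agent.H13Desc.EffDescent.Sec
import Groth.Agent.H13Desc.EffDescent.Alg
import Groth.Agent.H13Desc.Fpqc

/-!
# Compatible families over affine schemes commute with flat base change
-/

set_option autoImplicit false
set_option linter.style.haveILetI false
set_option backward.isDefEq.respectTransparency false
set_option backward.isDefEq.respectTransparency.types false

universe u

open CategoryTheory CategoryTheory.Limits AlgebraicGeometry Opposite TopologicalSpace

noncomputable section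

namespace Groth.Agent.H13Desc.EffD

open EtSh H14QCoh

variable {ι : Type u} {S : Scheme.{u}} {X : ι → Scheme.{u}} {f : ∀ i, X i ⟶ S}

theorem ofArrows_mem_fpqc_of_finite {T : Scheme.{u}} [IsAffine T] {κ : Type u} [Finite κ] {V : κ → Scheme.{u}}
    [∀ k, IsAffine (V k)] (h : ∀ k, V k ⟶ T) [∀ k, Flat (h k)]
    (hsur : ∀ x : T, ∃ k, x ∈ Set.range (h k)) : Sieve.ofArrows V h ∈ Scheme.fpqcTopology T := by
  have hmem : Presieve.ofArrows V h ∈ Scheme.precoverage (@Flat) T :=
    (Scheme.ofArrows_mem_precoverage_iff _).2 ⟨hsur, fun k => inferInstance⟩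
  let 𝒱 : T.Cover (Scheme.precoverage @Flat) := ⟨PreZeroHypercover.mk κ V h, hmem⟩
  haveI : Finite 𝒱.I₀ := ‹Finite κ›
  haveI : ∀ i, QuasiCompact (𝒱.f i) := fun k => inferInstanceAs (QuasiCompact (h k))
  have hq : QuasiCompactCover (PreZeroHypercover.mk κ V h) := QuasiCompactCover.of_finite (𝒰 := 𝒱)
  exact Precoverage.generate_mem_toGrothendieck ⟨Scheme.presieve₀_mem_qcPrecoverage_iff.2 hq, hmem⟩

/-- Over an affine scheme, base changes of a covering family are refined by finitely many affine schemes. -/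
theorem exists_refinement (hf : Presieve.ofArrows X f ∈ Scheme.fpqcPrecoverage S) {T : Scheme.{u}} [IsAffine T]
    (t : T ⟶ S) :
    ∃ (κ : Type u) (_ : Finite κ) (V : κ → Scheme.{u}) (_ : ∀ k, IsAffine (V k)) (h : ∀ k, V k ⟶ T)
      (_ : ∀ k, Flat (h k)) (a : κ → ι) (s : ∀ k, V k ⟶ X (a k)),
      (∀ k, s k ≫ f (a k) = h k ≫ t) ∧ ∀ x : T, ∃ k, x ∈ Set.range (h k) := by
  haveI := fpqc_quasiCompactCover hf
  haveI : ∀ i, Flat (f i) := fpqc_flat hf
  let P : PreZeroHypercover T := PreZeroHypercover.mk ι (fun i => pullback t (f i)) fun i => pullback.fst t (f i)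
  haveI : QuasiCompactCover P :=
    inferInstanceAs (QuasiCompactCover ((PreZeroHypercover.mk ι X f).pullback₁ t))
  obtain ⟨n, a, O, hO, h⟩ := QuasiCompactCover.exists_isAffineOpen_of_isCompact P (isAffineOpen_top T).isCompact
  refine ⟨ULift.{u} (Fin n), inferInstance, fun k => (O k.down).toScheme, fun k => hO k.down,
    fun k => (O k.down).ι ≫ pullback.fst t (f (a k.down)), fun k => ?_, fun k => a k.down,
    fun k => (O k.down).ι ≫ pullback.snd t (f (a k.down)), fun k => ?_, fun x => ?_⟩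
  · haveI : Flat (O k.down).ι := inferInstance
    haveI : Flat (pullback.fst t (f (a k.down))) := inferInstance
    exact inferInstanceAs (Flat (_ ≫ _))
  · rw [Category.assoc, Category.assoc, pullback.condition]
  · have hx : x ∈ ((⊤ : T.Opens) : Set T) := trivial
    rw [← h] at hx
    obtain ⟨k, v, hv, hvx⟩ := Set.mem_iUnion.mp hx
    exact ⟨⟨k⟩, ⟨v, hv⟩, hvx⟩

variable (D : Desc.modPF.{u}.DescentData f) [∀ i, (mem D i).IsQuasicoherent] {T T' : Scheme.{u}} {t : T ⟶ S}

/-- Base change of compatible families over a piece where the base lifts to a member. -/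
theorem isBC_piece {i : ι} {V V' : Scheme.{u}} [IsAffine V] [IsAffine V'] (c : V' ⟶ V) (v : V ⟶ S) (v' : V' ⟶ S)
    (e : c ≫ v = v') (s : V ⟶ X i) (hs : s ≫ f i = v) :
    IsBC c.appTop.hom (res (D := D) c v' e) := by
  have hs' : (c ≫ s) ≫ f i = v' := by rw [Category.assoc, hs, e]
  let l : Sec D v →ₗ[Γ(V, ⊤)] Γ(Inv (mem D i) s, ⊤) :=
    { toFun := evalAt s hs, map_add' := map_add _, map_smul' := evalAt_smul s hs }
  let l' : Sec D v' ≃ₗ[Γ(V', ⊤)] Γ(Inv (mem D i) (c ≫ s), ⊤) :=
    LinearEquiv.ofBijective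
      { toFun := evalAt (c ≫ s) hs', map_add' := map_add _, map_smul' := evalAt_smul (c ≫ s) hs' }
      (bijective_evalAt (c ≫ s) hs')
  have h1 := ((IsBC.id Γ(V, ⊤) (Sec D v)).comp_equiv l (bijective_evalAt s hs)).comp
    (isBC_rm (mem D i) c s (c ≫ s) rfl)
  have h2 := h1.comp_equiv l'.symm.toLinearMap l'.symm.bijective
  convert h2 using 1
  · rfl
  · refine AddMonoidHom.ext fun x => l'.injective ?_
    refine Eq.trans ?_ (l'.apply_symm_apply _).symm
    exact (rm_evalAt s hs c v' e (c ≫ s) rfl x).symm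

omit [∀ i, (mem D i).IsQuasicoherent] in
lemma res_appTop_smul {U V W : Scheme.{u}} {v : V ⟶ S} (q : W ⟶ V) (w : W ⟶ S) (e : q ≫ v = w) (h : V ⟶ U)
    (k : W ⟶ U) (hk : q ≫ h = k) (r : Γ(U, ⊤)) (x : Sec D v) :
    res q w e (h.appTop r • x) = k.appTop r • res q w e x := by
  subst hk
  rw [res_smul, Scheme.Hom.comp_appTop]
  rfl

omit [∀ i, (mem D i).IsQuasicoherent] in
lemma res_comm {U V V' W : Scheme.{u}} {u : U ⟶ S} {v : V ⟶ S} {v' : V' ⟶ S} {w : W ⟶ S} {a : V ⟶ U}
    {b : W ⟶ V} {a' : V' ⟶ U} {b' : W ⟶ V'} {ea : a ≫ u = v} {eb : b ≫ v = w} {ea' : a' ≫ u = v'}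
    {eb' : b' ≫ v' = w} (h : b ≫ a = b' ≫ a') (x : Sec D u) :
    res b w eb (res a v ea x) = res b' w eb' (res a' v' ea' x) :=
  (res_res a v ea b w eb (b' ≫ a') h x).trans (res_res a' v' ea' b' w eb' (b' ≫ a') rfl x).symm

/-- Base change of compatible families along a flat map of affine schemes. -/
theorem isBC_res (hf : Presieve.ofArrows X f ∈ Scheme.fpqcPrecoverage S) [IsAffine T] [IsAffine T'] (g : T' ⟶ T)
    [Flat g] (t' : T' ⟶ S) (e : g ≫ t = t') : IsBC g.appTop.hom (res (D := D) g t' e) := by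
  classical
  obtain ⟨κ, hκ, V, hV, h, hfl, a, s, hs, hsur⟩ := exists_refinement hf t
  let V' : κ → Scheme.{u} := fun k => pullback (h k) g
  let h' : ∀ k, V' k ⟶ T' := fun k => pullback.snd (h k) g
  let W : κ × κ → Scheme.{u} := fun p => pullback (h p.1) (h p.2)
  let w : ∀ p, W p ⟶ T := fun p => pullback.fst (h p.1) (h p.2) ≫ h p.1
  let W' : κ × κ → Scheme.{u} := fun p => pullback (w p) g
  let w' : ∀ p, W' p ⟶ T' := fun p => pullback.snd (w p) g
  let q₁ : ∀ p, W p ⟶ V p.1 := fun p => pullback.fst _ _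
  let q₂ : ∀ p, W p ⟶ V p.2 := fun p => pullback.snd _ _
  let q₁' : ∀ p, W' p ⟶ V' p.1 := fun p => pullback.lift (pullback.fst _ _ ≫ q₁ p) (w' p) (by
    rw [Category.assoc]; exact pullback.condition)
  let q₂' : ∀ p, W' p ⟶ V' p.2 := fun p => pullback.lift (pullback.fst _ _ ≫ q₂ p) (w' p) (by
    rw [Category.assoc, ← pullback.condition]; exact pullback.condition)
  haveI : ∀ k, IsAffine (V' k) := fun k => inferInstanceAs (IsAffine (pullback (h k) g))
  haveI : ∀ p, IsAffine (W p) := fun p => inferInstanceAs (IsAffine (pullback (h p.1) (h p.2)))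
  haveI : ∀ p, IsAffine (W' p) := fun p => inferInstanceAs (IsAffine (pullback (w p) g))
  haveI : ∀ k, Flat (h' k) := fun k => inferInstanceAs (Flat (pullback.snd (h k) g))
  have hcov : Sieve.ofArrows V h ∈ Scheme.fpqcTopology T := ofArrows_mem_fpqc_of_finite h hsur
  have hcov' : Sieve.ofArrows V' h' ∈ Scheme.fpqcTopology T' := ofArrows_mem_fpqc_of_finite h' fun x => by
    obtain ⟨k, v, hv⟩ := hsur (g x)
    obtain ⟨z, -, hz⟩ := Scheme.Pullback.exists_preimage_pullback v x hv
    exact ⟨k, z, hz⟩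
  let A := Γ(T, ⊤)
  let B := Γ(T', ⊤)
  letI iP : ∀ k, Module A (Sec D (h k ≫ t)) := fun k => Module.compHom _ (h k).appTop.hom
  letI iR : ∀ p, Module A (Sec D (w p ≫ t)) := fun p => Module.compHom _ (w p).appTop.hom
  letI iP' : ∀ k, Module B (Sec D (h' k ≫ t')) := fun k => Module.compHom _ (h' k).appTop.hom
  letI iR' : ∀ p, Module B (Sec D (w' p ≫ t')) := fun p => Module.compHom _ (w' p).appTop.hom
  let φP : ∀ k, Sec D (h k ≫ t) →+ Sec D (h' k ≫ t') := fun k =>
    res (pullback.fst (h k) g) _ (by rw [← e, ← Category.assoc, pullback.condition, Category.assoc])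
  let φR : ∀ p, Sec D (w p ≫ t) →+ Sec D (w' p ≫ t') := fun p =>
    res (pullback.fst (w p) g) _ (by rw [← e, ← Category.assoc, pullback.condition, Category.assoc])
  have hP : ∀ k, IsBC g.appTop.hom (φP k) := fun k =>
    (isBC_piece D (pullback.fst (h k) g) _ _ _ (s k) (hs k)).sq
      (isPushout_appTop_of_isPullback (IsPullback.of_hasPullback (h k) g)).flip
  have hR : ∀ p, IsBC g.appTop.hom (φR p) := fun p =>
    (isBC_piece D (pullback.fst (w p) g) _ _ _ (q₁ p ≫ s p.1) (by
      rw [Category.assoc, hs, ← Category.assoc])).sq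
      (isPushout_appTop_of_isPullback (IsPullback.of_hasPullback (w p) g)).flip
  have hcomm : ∀ p, q₂ p ≫ h p.2 = w p := fun p => pullback.condition.symm
  let i : Sec D t →ₗ[A] ∀ k, Sec D (h k ≫ t) :=
    { toFun := fun x k => res (h k) _ rfl x
      map_add' := fun x y => funext fun k => map_add _ x y
      map_smul' := fun r x => funext fun k => res_smul _ _ _ r x }
  let i' : Sec D t' →ₗ[B] ∀ k, Sec D (h' k ≫ t') :=
    { toFun := fun x k => res (h' k) _ rfl x
      map_add' := fun x y => funext fun k => map_add _ x y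
      map_smul' := fun r x => funext fun k => res_smul _ _ _ r x }
  let d : (∀ k, Sec D (h k ≫ t)) →ₗ[A] ∀ p, Sec D (w p ≫ t) :=
    { toFun := fun x p => res (q₁ p) _ (by rw [← Category.assoc]) (x p.1) -
        res (q₂ p) _ (by rw [← Category.assoc, hcomm]) (x p.2)
      map_add' := fun x y => funext fun p => by simp only [Pi.add_apply, map_add]; abel
      map_smul' := fun r x => funext fun p => by
        change res (q₁ p) (w p ≫ t) _ ((h p.1).appTop r • x p.1) - res (q₂ p) (w p ≫ t) _ ((h p.2).appTop r • x p.2) =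
          (w p).appTop r • (res (q₁ p) (w p ≫ t) _ (x p.1) - res (q₂ p) (w p ≫ t) _ (x p.2))
        rw [res_appTop_smul D (q₁ p) _ _ (h p.1) (w p) rfl, res_appTop_smul D (q₂ p) _ _ (h p.2) (w p) (hcomm p),
          smul_sub] }
  let d' : (∀ k, Sec D (h' k ≫ t')) →ₗ[B] ∀ p, Sec D (w' p ≫ t') :=
    { toFun := fun x p => res (q₁' p) _ (by rw [← Category.assoc, pullback.lift_snd]) (x p.1) -
        res (q₂' p) _ (by rw [← Category.assoc, pullback.lift_snd]) (x p.2)
      map_add' := fun x y => funext fun p => by simp only [Pi.add_apply, map_add]; abel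
      map_smul' := fun r x => funext fun p => by
        change res (q₁' p) (w' p ≫ t') _ ((h' p.1).appTop r • x p.1) -
            res (q₂' p) (w' p ≫ t') _ ((h' p.2).appTop r • x p.2) =
          (w' p).appTop r • (res (q₁' p) (w' p ≫ t') _ (x p.1) - res (q₂' p) (w' p ≫ t') _ (x p.2))
        rw [res_appTop_smul D (q₁' p) _ _ (h' p.1) (w' p) (pullback.lift_snd _ _ _),
          res_appTop_smul D (q₂' p) _ _ (h' p.2) (w' p) (pullback.lift_snd _ _ _), smul_sub] }
  refine isBC_of_exact g.flat_appTop (fun r x => res_smul g t' e r x) (isBC_pi hP) (isBC_pi hR) i d i' d'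
    (fun x y hxy => Sec.eq_of_cover V h hcov (congrFun hxy)) ?_
    (fun x y hxy => Sec.eq_of_cover V' h' hcov' (congrFun hxy)) (fun m => funext fun p => ?_)
    (fun m => funext fun k => ?_) (fun x => funext fun p => ?_)
  · intro x
    constructor
    · intro hx
      obtain ⟨m, hm⟩ := Sec.exists_glue V h hcov x fun l m W₀ p p' u hp hp' he => by
        let q : W₀ ⟶ W (l, m) := pullback.lift p p' he
        have key := sub_eq_zero.1 (congrFun hx (l, m))
        have hq : q ≫ w (l, m) ≫ t = u := by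
          change pullback.lift p p' he ≫ (pullback.fst _ _ ≫ h l) ≫ t = u
          rw [Category.assoc, pullback.lift_fst_assoc, hp]
        have := congrArg (res q u hq) key
        rwa [res_res _ _ _ q _ _ p (pullback.lift_fst _ _ _), res_res _ _ _ q _ _ p' (pullback.lift_snd _ _ _)] at this
      exact ⟨m, funext hm⟩
    · rintro ⟨m, rfl⟩
      refine funext fun p => sub_eq_zero.2 ?_
      exact (res_res (h p.1) (h p.1 ≫ t) rfl (q₁ p) (w p ≫ t) (Category.assoc _ _ _).symm (w p) rfl m).trans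
        (res_res (h p.2) (h p.2 ≫ t) rfl (q₂ p) (w p ≫ t) (by rw [← Category.assoc, hcomm]) (w p) (hcomm p) m).symm
  · refine sub_eq_zero.2 ?_
    exact (res_res (h' p.1) (h' p.1 ≫ t') rfl (q₁' p) (w' p ≫ t') (by rw [← Category.assoc, pullback.lift_snd])
      (w' p) (pullback.lift_snd _ _ _) m).trans
      (res_res (h' p.2) (h' p.2 ≫ t') rfl (q₂' p) (w' p ≫ t') (by rw [← Category.assoc, pullback.lift_snd])
        (w' p) (pullback.lift_snd _ _ _) m).symm
  · change res (h' k) (h' k ≫ t') rfl (res g t' e m) = res (pullback.fst (h k) g) (h' k ≫ t')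
      (by rw [← e, ← Category.assoc, pullback.condition, Category.assoc]) (res (h k) (h k ≫ t) rfl m)
    exact res_comm D pullback.condition.symm m
  · change res (q₁' p) (w' p ≫ t') _ (φP p.1 (x p.1)) - res (q₂' p) (w' p ≫ t') _ (φP p.2 (x p.2)) =
      φR p (res (q₁ p) (w p ≫ t) _ (x p.1) - res (q₂ p) (w p ≫ t) _ (x p.2))
    rw [map_sub]
    exact congrArg₂ (· - ·) (res_comm D (pullback.lift_fst _ _ _) _) (res_comm D (pullback.lift_fst _ _ _) _)

end Groth.Agent.H13Desc.EffD
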