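import Groth.Agent.H13Desc.EffDescent.Val
import Groth.Agent.H10Coh.FlatBC.Transpose

/-!
# The counit is an isomorphism
-/

set_option autoImplicit false
set_option linter.style.haveILetI false
set_option backward.isDefEq.respectTransparency false
set_option backward.isDefEq.respectTransparency.types false

universe u

open CategoryTheory CategoryTheory.Limits AlgebraicGeometry Opposite TopologicalSpace TensorProduct

noncomputable section

namespace Groth.Agent.H13Desc.EffD

open EtSh H14QCoh Groth.Agent.H17.PullSect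

/-- A semilinear bijection over a bijective ring map is a base change. -/
theorem isBC_of_bijective {A B M N : Type u} [CommRing A] [CommRing B] [AddCommGroup M] [Module A M]
    [AddCommGroup N] [Module B N] {σ : A →+* B} {φ : M →+ N} (hσ : Function.Bijective σ)
    (smul : ∀ (a : A) (m : M), φ (a • m) = σ a • φ m) (hφ : Function.Bijective φ) : IsBC σ φ := by
  letI := σ.toAlgebra
  letI := Module.compHom N σ
  haveI : IsScalarTower A B N := .of_algebraMap_smul fun _ _ => rfl
  let F : M →ₗ[A] N := { toFun := φ, map_add' := map_add φ, map_smul' := smul }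
  have h1 : ∀ m, F.liftBaseChange B (1 ⊗ₜ[A] m) = φ m := fun m =>
    (LinearMap.liftBaseChange_tmul ..).trans (one_smul B (F m))
  have hsur : ∀ z : B ⊗[A] M, ∃ m, (1 : B) ⊗ₜ[A] m = z := by
    intro z
    induction z using TensorProduct.induction_on with
    | zero => exact ⟨0, TensorProduct.tmul_zero _ _⟩
    | add x y hx hy =>
      obtain ⟨m, rfl⟩ := hx
      obtain ⟨m', rfl⟩ := hy
      exact ⟨m + m', TensorProduct.tmul_add _ _ _⟩
    | tmul b m =>
      obtain ⟨a, rfl⟩ := hσ.2 b
      refine ⟨a • m, ?_⟩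
      rw [← TensorProduct.smul_tmul, Algebra.smul_def, mul_one]
      rfl
  refine isBC_of_tensor smul ⟨F.liftBaseChange B, ⟨fun x y h => ?_, fun n => ?_⟩, h1⟩
  · obtain ⟨m, rfl⟩ := hsur x
    obtain ⟨m', rfl⟩ := hsur y
    rw [h1, h1] at h
    rw [hφ.1 h]
  · obtain ⟨m, rfl⟩ := hφ.2 n
    exact ⟨_, h1 m⟩

lemma bijective_ρ {S : Scheme.{u}} (W : S.Opens) : Function.Bijective (ρ W) := by
  haveI : IsIso (W.ι.app W) := W.ι.isIso_app W (Scheme.Opens.opensRange_ι W).ge
  have e : W.ι ⁻¹ᵁ W = ⊤ := top_le_iff.1 (top_le_ι W)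
  haveI : IsIso (W.toScheme.presheaf.map (homOfLE (top_le_ι W)).op) := by
    rw [show (homOfLE (top_le_ι W)) = eqToHom e.symm from Subsingleton.elim _ _]
    infer_instance
  haveI : IsIso (W.ι.appLE W ⊤ (top_le_ι W)) := by rw [Scheme.Hom.appLE]; infer_instance
  exact ConcreteCategory.bijective_of_isIso (W.ι.appLE W ⊤ (top_le_ι W))

variable {ι : Type u} {S : Scheme.{u}} {X : ι → Scheme.{u}} {f : ∀ i, X i ⟶ S}
  (D : Desc.modPF.{u}.DescentData f) [∀ i, (mem D i).IsQuasicoherent] (i : ι)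

set_option maxHeartbeats 1000000 in
theorem isIso_counit (hf : Presieve.ofArrows X f ∈ Scheme.fpqcPrecoverage S) : IsIso (counit D i) := by
  haveI : Flat (f i) := fpqc_flat hf i
  refine H10Coh.FBC.isIso_transpose (f i) (isQuasicoherent_descMod D hf) (counit₀ D i)
    fun U V hU hV hle => ?_
  haveI : IsAffine U.toScheme := hU
  haveI : IsAffine V.toScheme := hV
  let k : V.toScheme ⟶ U.toScheme := (f i).resLE U V hle
  have hk : k ≫ U.ι = V.ι ≫ f i := (f i).resLE_comp_ι hle
  haveI : Flat k := inferInstanceAs (Flat ((f i).resLE U V hle))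
  let idm : Γ(descMod D, U) →+ Sec D U.ι :=
    { toFun := fun x => x, map_zero' := rfl, map_add' := fun _ _ => rfl }
  have h0 : IsBC (ρ U) idm := isBC_of_bijective (bijective_ρ U) (fun a m => rfl) Function.bijective_id
  have hs : V.ι ≫ f i = V.ι ≫ f i := rfl
  let lV : Sec D (V.ι ≫ f i) →ₗ[Γ(V.toScheme, ⊤)] Γ(Inv (mem D i) V.ι, ⊤) :=
    { toFun := evalAt V.ι hs, map_add' := map_add _, map_smul' := evalAt_smul V.ι hs }
  have h1 := (h0.comp (isBC_res D hf k (V.ι ≫ f i) hk)).comp_equiv lV (bijective_evalAt V.ι hs)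
  let eρ : Γ(X i, V) ≃+* Γ(V.toScheme, ⊤) := RingEquiv.ofBijective (ρ V) (bijective_ρ V)
  let ep : Γ(mem D i, V) ≃+ Γ(Inv (mem D i) V.ι, ⊤) :=
    AddEquiv.ofBijective (pm (mem D i) V.ι V (fun z _ => z.2)) (bijective_pm (mem D i) V)
  have h2 : IsBC eρ.symm.toRingHom ep.symm.toAddMonoidHom := by
    refine isBC_of_bijective eρ.symm.bijective (fun a n => ep.injective ?_) ep.symm.bijective
    change ep (ep.symm (a • n)) = pm (mem D i) V.ι V (fun z _ => z.2) (eρ.symm a • ep.symm n)
    rw [pm_smul, AddEquiv.apply_symm_apply]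
    exact congrArg₂ (fun (p : Γ(V.toScheme, ⊤)) q => p • q) (eρ.apply_symm_apply a).symm
      (ep.apply_symm_apply n).symm
  have h3 := h1.comp h2
  have hring : (eρ.symm.toRingHom.comp (k.appTop.hom.comp (ρ U))) = ((f i).appLE U V hle).hom := by
    refine RingHom.ext fun r => eρ.injective ?_
    rw [RingHom.comp_apply, RingEquiv.toRingHom_eq_coe, RingEquiv.coe_toRingHom, RingEquiv.apply_symm_apply]
    have hle' : (⊤ : V.toScheme.Opens) ≤ (V.ι ≫ f i) ⁻¹ᵁ U := fun z _ => hle z.2
    refine (appTop_ρ' U k (V.ι ≫ f i) hk hle' r).trans ?_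
    change _ = ((f i).appLE U V hle ≫ V.ι.appLE V ⊤ (top_le_ι V)) r
    rw [Scheme.Hom.appLE_comp_appLE]
  rw [hring] at h3
  letI := ((f i).appLE U V hle).hom.toAlgebra
  letI := Module.compHom Γ(mem D i, V) ((f i).appLE U V hle).hom
  haveI : IsScalarTower Γ(S, U) Γ(X i, V) Γ(mem D i, V) := .of_algebraMap_smul fun _ _ => rfl
  have h4 := h3.bc (H10Coh.FBC.locLin (f i) (counit₀ D i) hle) fun x => ep.injective (by
    refine Eq.trans ?_ (ep.apply_symm_apply _).symm
    change pm (mem D i) V.ι V (fun z _ => z.2) ((mem D i).presheaf.map (homOfLE hle).op (val D i U x)) = _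
    rw [pm_res, pm_val D i U x V.ι k hk.symm]
    change _ = evS D (V.ι ≫ f i) V.ι (𝟙 _) _ (res k (V.ι ≫ f i) hk x)
    rw [evS_res]
    exact evS_congr (Category.id_comp k).symm _ x)
  exact h4

end Groth.Agent.H13Desc.EffD
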