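import Groth.Agent.H13Desc.EffDescent.Iso

/-!
# Descent data of quasi-coherent modules along fpqc coverings are effective
-/

set_option autoImplicit false
set_option linter.style.haveILetI false
set_option backward.isDefEq.respectTransparency false
set_option backward.isDefEq.respectTransparency.types false

universe u

open CategoryTheory CategoryTheory.Limits AlgebraicGeometry Opposite TopologicalSpace

noncomputable section

namespace Groth.Agent.H13Desc.EffD

open EtSh H14QCoh Groth.Agent.H17.PullSect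

/-- Morphisms between inverse images from different bases commute with restriction to an open. -/
lemma σ_hom' {S S' U V : Scheme.{u}} {M : S.Modules} {N : S'.Modules} (g : V ⟶ U) (u : U ⟶ S) (v : V ⟶ S)
    (e : g ≫ u = v) (w : U ⟶ S') (z : V ⟶ S') (e' : g ≫ w = z) (φ : Inv M u ⟶ Inv N w) (W : U.Opens)
    (h : (⊤ : V.Opens) ≤ g ⁻¹ᵁ W) (x : Γ(Inv M u, W)) :
    σ N g w z e' W h (φ.app W x) =
      (inv (tr M g u v e) ≫ (Scheme.Modules.pullback g).map φ ≫ tr N g w z e').app ⊤ (σ M g u v e W h x) := by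
  rw [σ_apply, σ_apply, pullSect_natural]
  let y := OmegaSh.pullSect g (Inv M u) W x
  have n' : ((Scheme.Modules.pullback g).obj (Inv N w)).presheaf.map (homOfLE h).op
      (((Scheme.Modules.pullback g).map φ).app (g ⁻¹ᵁ W) y) =
      ((Scheme.Modules.pullback g).map φ).app ⊤
        (((Scheme.Modules.pullback g).obj (Inv M u)).presheaf.map (homOfLE h).op y) :=
    congr($((Scheme.Modules.Hom.mapPresheaf ((Scheme.Modules.pullback g).map φ)).naturality
      (homOfLE h).op) y).symm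
  rw [n']
  change ((Scheme.Modules.pullback g).map φ ≫ tr N g w z e').app ⊤ _ =
    (tr M g u v e ≫ inv (tr M g u v e) ≫ (Scheme.Modules.pullback g).map φ ≫ tr N g w z e').app ⊤ _
  rw [IsIso.hom_inv_id_assoc]

variable {ι : Type u} {S : Scheme.{u}} {X : ι → Scheme.{u}} {f : ∀ i, X i ⟶ S}
  (D : Desc.modPF.{u}.DescentData f) [∀ i, (mem D i).IsQuasicoherent]

/-- The counit pulled back to a scheme over a member. -/
def θ {i : ι} {Z : Scheme.{u}} (a : Z ⟶ X i) (q : Z ⟶ S) (ha : a ≫ f i = q) :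
    Inv (descMod D) q ⟶ Inv (mem D i) a :=
  inv (tr (descMod D) a (f i) q ha) ≫ (Scheme.Modules.pullback a).map (counit D i)

lemma σ_θ {i : ι} {Z T : Scheme.{u}} (a : Z ⟶ X i) (q : Z ⟶ S) (ha : a ≫ f i = q) (W : S.Opens)
    (x : Sec D W.ι) (g : T ⟶ Z) (a' : T ⟶ X i) (ea : g ≫ a = a') (k : T ⟶ W.toScheme)
    (hk : a' ≫ f i = k ≫ W.ι) (h : (⊤ : T.Opens) ≤ g ⁻¹ᵁ (q ⁻¹ᵁ W)) :
    σ (mem D i) g a a' ea (q ⁻¹ᵁ W) h ((θ D a q ha).app (q ⁻¹ᵁ W) (OmegaSh.pullSect q (descMod D) W x)) =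
      evS D W.ι a' k hk x := by
  subst ha
  have h1 : inv (tr (descMod D) a (f i) (a ≫ f i) rfl) =
      (Scheme.Modules.pullbackComp a (f i)).inv.app (descMod D) := by
    refine IsIso.inv_eq_of_hom_inv_id ?_
    simp only [tr, eqToHom_refl]
    erw [Category.comp_id]
    exact Iso.hom_inv_id_app _ _
  have h2 : (θ D a (a ≫ f i) rfl).app ((a ≫ f i) ⁻¹ᵁ W) (OmegaSh.pullSect (a ≫ f i) (descMod D) W x) =
      OmegaSh.pullSect a (mem D i) (f i ⁻¹ᵁ W) (val D i W x) := by
    rw [θ, h1]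
    refine (congrArg (((Scheme.Modules.pullback a).map (counit D i)).app ((a ≫ f i) ⁻¹ᵁ W))
      (pullSect_comp a (f i) (descMod D) W x)).trans ?_
    rw [← counit_pullSect D i W x]
    exact (pullSect_natural a (counit D i) (f i ⁻¹ᵁ W) (OmegaSh.pullSect (f i) (descMod D) W x)).symm
  have h' : (⊤ : T.Opens) ≤ a' ⁻¹ᵁ (f i ⁻¹ᵁ W) := by rw [← ea]; exact h
  refine ((congrArg _ h2).trans (σ_pullSect (mem D i) g a a' ea (f i ⁻¹ᵁ W) h h' _)).trans ?_
  exact pm_val D i W x a' k hk h'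

theorem θ_phi {i j : ι} {Z : Scheme.{u}} (q : Z ⟶ S) (a : Z ⟶ X i) (b : Z ⟶ X j) (ha : a ≫ f i = q)
    (hb : b ≫ f j = q) : θ D a q ha ≫ phi D q a b ha hb = θ D b q hb := by
  apply ((Scheme.Modules.pullbackPushforwardAdjunction q).homEquiv _ _).injective
  refine Scheme.Modules.hom_ext _ _ fun W => AddCommGrpCat.ext fun (x : Sec D W.ι) => ?_
  rw [Adjunction.homEquiv_unit, Adjunction.homEquiv_unit]
  let O : Z.Opens := q ⁻¹ᵁ W
  let z := OmegaSh.pullSect q (descMod D) W x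
  have hO : (⊤ : O.toScheme.Opens) ≤ O.ι ⁻¹ᵁ O := fun w _ => w.2
  let k : O.toScheme ⟶ W.toScheme := q ∣_ W
  have hk : k ≫ W.ι = O.ι ≫ q := morphismRestrict_ι q W
  refine (bijective_σ (mem D j) O.ι b (O.ι ≫ b) rfl O (Scheme.Opens.opensRange_ι O) hO).1 ?_
  change σ (mem D j) O.ι b (O.ι ≫ b) rfl O hO ((phi D q a b ha hb).app O ((θ D a q ha).app O z)) =
    σ (mem D j) O.ι b (O.ι ≫ b) rfl O hO ((θ D b q hb).app O z)
  rw [σ_hom' O.ι a (O.ι ≫ a) rfl b (O.ι ≫ b) rfl, phi_pull D O.ι q (O.ι ≫ q) rfl a b ha hb,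
    ← τ_apply D (O.ι ≫ q) (O.ι ≫ a) (O.ι ≫ b),
    σ_θ D a q ha W x O.ι (O.ι ≫ a) rfl k (by rw [Category.assoc, ha, hk]) hO,
    σ_θ D b q hb W x O.ι (O.ι ≫ b) rfl k (by rw [Category.assoc, hb, hk]) hO]
  exact τ_evS D W.ι _ _ k _ _ _ hk.symm x

omit [∀ i, (mem D i).IsQuasicoherent] in
theorem effective (hf : Presieve.ofArrows X f ∈ Scheme.fpqcPrecoverage S)
    (hD : ∀ i, (mem D i).IsQuasicoherent) :
    ∃ M : S.Modules, M.IsQuasicoherent ∧ Nonempty ((Desc.modPF.{u}.toDescentData f).obj M ≅ D) := by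
  haveI := hD
  refine ⟨descMod D, isQuasicoherent_descMod D hf, ⟨?_⟩⟩
  refine Pseudofunctor.DescentData.isoMk
    (fun i => haveI := isIso_counit D i hf; asIso (counit D i)) ?_
  intro Y q i j a b ha hb
  have pa : (f i).op.toLoc ≫ a.op.toLoc = q.op.toLoc := by rw [← ha]; rfl
  have pb : (f j).op.toLoc ≫ b.op.toLoc = q.op.toLoc := by rw [← hb]; rfl
  let e₁ : (Scheme.Modules.pullback a).obj (Inv (descMod D) (f i)) ⟶
      (Scheme.Modules.pullback b).obj (Inv (descMod D) (f j)) :=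
    tr (descMod D) a (f i) q ha ≫ inv (tr (descMod D) b (f j) q hb)
  have h1 : ((Desc.modPF.{u}.toDescentData f).obj (descMod D)).hom q a b ha hb = e₁ :=
    (congr (congrArg CategoryStruct.comp (mapComp'_inv_app (descMod D) a (f i) q ha pa))
      (mapComp'_hom_app (descMod D) b (f j) q hb pb))
  have key : (Scheme.Modules.pullback a).map (counit D i) ≫ phi D q a b ha hb =
      e₁ ≫ (Scheme.Modules.pullback b).map (counit D j) := by
    rw [← cancel_epi (inv (tr (descMod D) a (f i) q ha))]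
    simp only [e₁, Category.assoc, IsIso.inv_hom_id_assoc]
    have := θ_phi D q a b ha hb
    simpa only [θ, Category.assoc] using this
  rw [h1]
  exact key

end Groth.Agent.H13Desc.EffD
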