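import Groth.Agent.H13Desc.EffDescent.BC
import Groth.Agent.H11Tilde.QCohCrit
import Groth.Agent.H14QCoh.ExtendBasic

/-!
# The module of compatible families
-/

set_option autoImplicit false
set_option linter.style.haveILetI false
set_option backward.isDefEq.respectTransparency false
set_option backward.isDefEq.respectTransparency.types false

universe u

open CategoryTheory CategoryTheory.Limits AlgebraicGeometry Opposite TopologicalSpace

noncomputable section

namespace Groth.Agent.H13Desc.EffD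

open EtSh H14QCoh

variable {ι : Type u} {S : Scheme.{u}} {X : ι → Scheme.{u}} {f : ∀ i, X i ⟶ S}
  (D : Desc.modPF.{u}.DescentData f)

lemma top_le_ι (W : S.Opens) : (⊤ : W.toScheme.Opens) ≤ W.ι ⁻¹ᵁ W := fun z _ => z.2

/-- Functions on an open as functions on the open subscheme. -/
abbrev ρ (W : S.Opens) : Γ(S, W) →+* Γ(W.toScheme, ⊤) := (W.ι.appLE W ⊤ (top_le_ι W)).hom

/-- Restriction to smaller opens. -/
abbrev resO {W W' : S.Opens} (h : W' ≤ W) : Sec D W.ι →+ Sec D W'.ι :=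
  res (S.homOfLE h) W'.ι (S.homOfLE_ι h)

lemma appTop_ρ {W W' : S.Opens} (h : W' ≤ W) (r : Γ(S, W)) :
    (S.homOfLE h).appTop (ρ W r) = ρ W' (S.presheaf.map (homOfLE h).op r) := by
  change (W.ι.appLE W ⊤ (top_le_ι W) ≫ (S.homOfLE h).appTop) r =
    (S.presheaf.map (homOfLE h).op ≫ W'.ι.appLE W' ⊤ (top_le_ι W')) r
  rw [Scheme.Hom.map_appLE, Scheme.Hom.appTop, Scheme.Hom.app_eq_appLE, Scheme.Hom.appLE_comp_appLE]
  simp only [Scheme.homOfLE_ι]
  rfl

lemma resO_smul {W W' : S.Opens} (h : W' ≤ W) (r : Γ(S, W)) (x : Sec D W.ι) :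
    resO D h (ρ W r • x) = ρ W' (S.presheaf.map (homOfLE h).op r) • resO D h x := by
  rw [resO, res_smul, appTop_ρ]

/-- The presheaf of compatible families. -/
def abPre : S.Opensᵒᵖ ⥤ Ab.{u} where
  obj W := AddCommGrpCat.of (Sec D W.unop.ι)
  map i := AddCommGrpCat.ofHom (resO D i.unop.le)
  map_id W := AddCommGrpCat.ext fun (x : Sec D W.unop.ι) =>
    Sec.ext' fun Z i a k h => (evS_res (S.homOfLE _) _ (S.homOfLE_ι _) a k h x).trans
      (evS_congr (k' := k) (by simp) (by rw [h, Category.assoc, Scheme.homOfLE_ι]) x)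
  map_comp {W W' W''} i j := AddCommGrpCat.ext fun (x : Sec D W.unop.ι) =>
    (res_res (S.homOfLE i.unop.le) W'.unop.ι (S.homOfLE_ι _) (S.homOfLE j.unop.le) W''.unop.ι (S.homOfLE_ι _)
      (S.homOfLE (j.unop.le.trans i.unop.le)) (S.homOfLE_homOfLE j.unop.le i.unop.le) x).symm

variable [∀ i, (mem D i).IsQuasicoherent]

theorem ofArrows_mem_fpqc_of_iSup {κ : Type*} (U : κ → S.Opens) {W : S.Opens} (h : ∀ k, U k ≤ W)
    (hW : W ≤ iSup U) :
    Sieve.ofArrows (fun k => (U k).toScheme) (fun k => S.homOfLE (h k)) ∈ Scheme.fpqcTopology W.toScheme := by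
  refine Scheme.zariskiTopology_le_fpqcTopology _ ?_
  refine GrothendieckTopology.superset_covering _ ?_
    (Scheme.Cover.mem_grothendieckTopology (W.toScheme.openCoverOfIsOpenCover
      (fun x : W.toScheme => W.ι ⁻¹ᵁ U (Opens.mem_iSup.1 (hW x.2)).choose)
      (IsOpenCover.mk (eq_top_iff.2 fun x _ => Opens.mem_iSup.2 ⟨x, (Opens.mem_iSup.1 (hW x.2)).choose_spec⟩))))
  rw [Sieve.ofArrows, Sieve.generate_le_iff]
  rintro _ _ ⟨x⟩
  let k := (Opens.mem_iSup.1 (hW x.2)).choose
  let O : W.toScheme.Opens := W.ι ⁻¹ᵁ U k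
  refine (Sieve.mem_ofArrows_iff _ _ _).2 ⟨k, IsOpenImmersion.lift (U k).ι (O.ι ≫ W.ι) ?_, ?_⟩
  · rw [Scheme.Opens.range_ι]
    rintro _ ⟨z, rfl⟩
    exact z.2
  · change O.ι = _
    rw [← cancel_mono W.ι, Category.assoc, Scheme.homOfLE_ι, IsOpenImmersion.lift_fac]

lemma abPre_isSheaf : TopCat.Presheaf.IsSheaf (abPre D : TopCat.Presheaf Ab.{u} S) := by
  rw [TopCat.Presheaf.isSheaf_iff_isSheaf_comp (CategoryTheory.forget Ab.{u}),
    TopCat.Presheaf.isSheaf_iff_isSheafUniqueGluing]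
  intro κ U₀ sf hsf
  let U : κ → S.Opens := U₀
  have hU : ∀ k, U k ≤ iSup U := le_iSup U
  have hcov := ofArrows_mem_fpqc_of_iSup U hU le_rfl
  let sf' : ∀ k, Sec D (U k).ι := sf
  let y : ∀ k, Sec D (S.homOfLE (hU k) ≫ (iSup U).ι) := fun k =>
    res (𝟙 _) _ (by rw [Category.id_comp, Scheme.homOfLE_ι]) (sf' k)
  obtain ⟨x, hx⟩ := Sec.exists_glue (fun k => (U k).toScheme) (fun k => S.homOfLE (hU k)) hcov y
    fun l m W p p' w hp hp' e => by
      let q : W ⟶ (U l ⊓ U m).toScheme := IsOpenImmersion.lift (U l ⊓ U m).ι (p ≫ (U l).ι) (by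
        rw [Scheme.Opens.range_ι]
        rintro _ ⟨z, rfl⟩
        refine ⟨(p z).2, ?_⟩
        rw [show p ≫ (U l).ι = p' ≫ (U m).ι by
          rw [← Scheme.homOfLE_ι S (hU l), ← Scheme.homOfLE_ι S (hU m), reassoc_of% e]]
        exact (p' z).2)
      have hl : q ≫ S.homOfLE inf_le_left = p := by
        rw [← cancel_mono (U l).ι, Category.assoc, Scheme.homOfLE_ι, IsOpenImmersion.lift_fac]
      have hm : q ≫ S.homOfLE inf_le_right = p' := by
        rw [← cancel_mono (U m).ι, Category.assoc, Scheme.homOfLE_ι, IsOpenImmersion.lift_fac,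
          ← Scheme.homOfLE_ι S (hU l), ← Scheme.homOfLE_ι S (hU m), reassoc_of% e]
      have key : resO D (inf_le_left : U l ⊓ U m ≤ U l) (sf' l) = resO D inf_le_right (sf' m) := hsf l m
      have hq : q ≫ (U l ⊓ U m).ι = w := by
        rw [IsOpenImmersion.lift_fac, ← hp, Scheme.homOfLE_ι]
      have key' := congrArg (res q w hq) key
      refine (res_res _ _ _ _ _ _ p (Category.comp_id p) (sf' l)).trans ?_
      refine Eq.trans ?_ (res_res _ _ _ _ _ _ p' (Category.comp_id p') (sf' m)).symm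
      exact (res_res _ _ _ _ _ _ p hl (sf' l)).symm.trans (key'.trans (res_res _ _ _ _ _ _ p' hm (sf' m)))
  have e1 : ∀ k, res (𝟙 _) (U k).ι (by rw [Category.id_comp, Scheme.homOfLE_ι]) (y k) = sf' k := fun k =>
    (res_res (𝟙 _) _ (by rw [Category.id_comp, Scheme.homOfLE_ι]) (𝟙 _) (U k).ι
      (by rw [Category.id_comp, Scheme.homOfLE_ι]) (𝟙 _) (Category.id_comp _) (sf' k)).trans (res_id _)
  refine ⟨x, fun k => ?_, fun x' hx' => ?_⟩
  · change resO D (hU k) x = sf' k
    rw [← e1 k, ← hx k]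
    exact (res_res _ _ _ _ _ _ _ (Category.id_comp _) x).symm
  · let x'' : Sec D (iSup U).ι := x'
    have hx'' : ∀ k, resO D (hU k) x'' = sf' k := hx'
    refine (Sec.eq_of_cover _ _ hcov fun k => ?_ : x'' = x)
    rw [hx k]
    refine Eq.trans ?_ (congrArg (res (𝟙 _) (S.homOfLE (hU k) ≫ (iSup U).ι)
      (by rw [Category.id_comp, Scheme.homOfLE_ι])) (hx'' k))
    exact (res_res (S.homOfLE (hU k)) (U k).ι (S.homOfLE_ι _) (𝟙 _) _
      (by rw [Category.id_comp, Scheme.homOfLE_ι]) _ (Category.id_comp _) x'').symm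

/-- The descended module. -/
def descMod : S.Modules :=
  letI : ∀ W, Module (S.ringCatSheaf.obj.obj W) ((abPre D).obj W) := fun W =>
    (Module.compHom (Sec D (show S.Opens from W.unop).ι) (ρ (show S.Opens from W.unop)) :
      Module Γ(S, (show S.Opens from W.unop)) (Sec D (show S.Opens from W.unop).ι))
  { val := PresheafOfModules.ofPresheaf (R := S.ringCatSheaf.obj) (abPre D) (by
      intro W V i r (x : Sec D (show S.Opens from W.unop).ι)
      exact resO_smul D i.unop.le r x)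
    isSheaf := abPre_isSheaf D }

lemma descMod_map {W W' : S.Opens} (h : W' ≤ W) (x : Γ(descMod D, W)) :
    (descMod D).presheaf.map (homOfLE h).op x = resO D h x := rfl

variable (hf : Presieve.ofArrows X f ∈ Scheme.fpqcPrecoverage S)

include hf in
theorem isQuasicoherent_descMod : (descMod D).IsQuasicoherent := by
  have key : ∀ (U : S.Opens), IsAffineOpen U → ∀ r : Γ(S, U),
      (∀ s : Sec D U.ι, resO D (S.basicOpen_le r) s = 0 → ∃ n : ℕ, ρ U (r ^ n) • s = 0) ∧
      ∀ s' : Sec D (S.basicOpen r).ι, ∃ (n : ℕ) (s : Sec D U.ι),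
        resO D (S.basicOpen_le r) s =
          ρ (S.basicOpen r) (S.presheaf.map (homOfLE (S.basicOpen_le r)).op (r ^ n)) • s' := by
    intro U hU r
    haveI : IsAffine U.toScheme := hU
    haveI : IsAffine (S.basicOpen r).toScheme := hU.basicOpen r
    let g := S.homOfLE (S.basicOpen_le r)
    have hbc := isBC_res D hf g (S.basicOpen r).ι (S.homOfLE_ι _) (t := U.ι)
    have hrange : g.opensRange = U.toScheme.basicOpen (ρ U r) := by
      rw [Scheme.opensRange_homOfLE, ρ, Scheme.basicOpen_appLE, top_inf_eq]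
    haveI hl := H14QCoh.isLocalization_of_range g (ρ U r) hrange
    letI := g.appTop.hom.toAlgebra
    letI := Module.compHom (Sec D (S.basicOpen r).ι) g.appTop.hom
    haveI : IsScalarTower Γ(U.toScheme, ⊤) Γ((S.basicOpen r).toScheme, ⊤) (Sec D (S.basicOpen r).ι) :=
      .of_algebraMap_smul fun _ _ => rfl
    let L : Sec D U.ι →ₗ[Γ(U.toScheme, ⊤)] Sec D (S.basicOpen r).ι :=
      { toFun := resO D (S.basicOpen_le r), map_add' := map_add _, map_smul' := fun a m => res_smul g _ _ a m }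
    haveI : IsLocalizedModule (Submonoid.powers (ρ U r)) L :=
      (isLocalizedModule_iff_isBaseChange (Submonoid.powers (ρ U r)) Γ((S.basicOpen r).toScheme, ⊤) L).2
        (hbc.bc L fun _ => rfl)
    refine ⟨fun s hs => ?_, fun s' => ?_⟩
    · obtain ⟨⟨_, n, rfl⟩, hn⟩ := (IsLocalizedModule.eq_zero_iff (Submonoid.powers (ρ U r)) L).1 hs
      refine ⟨n, ?_⟩
      rw [map_pow]
      exact hn
    · obtain ⟨⟨s, ⟨_, n, rfl⟩⟩, h⟩ := IsLocalizedModule.surj (Submonoid.powers (ρ U r)) L s'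
      refine ⟨n, s, h.symm.trans ?_⟩
      change g.appTop (ρ U r ^ n) • s' = ρ (S.basicOpen r) (S.presheaf.map _ (r ^ n)) • s'
      rw [← map_pow, appTop_ρ]
  exact H11Tilde.isQuasicoherent_of_basicOpen_localization (descMod D) (fun U : S.affineOpens => U.1)
    (IsOpenCover.mk (iSup_affineOpens_eq_top S)) (fun U => U.2) (fun U r s hs => (key U.1 U.2 r).1 s hs)
    (fun U r s' => (key U.1 U.2 r).2 s')

end Groth.Agent.H13Desc.EffD
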