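import Groth.Agent.H13Desc.EffDescent.Tau

/-!
# Compatible families of sections of a descent datum
-/

set_option autoImplicit false
set_option linter.style.haveILetI false
set_option backward.isDefEq.respectTransparency false
set_option backward.isDefEq.respectTransparency.types false

universe u

open CategoryTheory CategoryTheory.Limits AlgebraicGeometry Opposite TopologicalSpace

noncomputable section

namespace Groth.Agent.H13Desc.EffD

open EtSh

variable {ι : Type u} {S : Scheme.{u}} {X : ι → Scheme.{u}} {f : ∀ i, X i ⟶ S}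
  (D : Desc.modPF.{u}.DescentData f) {T : Scheme.{u}} (t : T ⟶ S)

/-- Families of sections over the base changes of the members. -/
abbrev Amb : Type u := ∀ i : ι, Γ(Inv (mem D i) (pullback.fst (f i) t), ⊤)

/-- The value of a family at a point over a member. -/
def ev {Z : Scheme.{u}} {i : ι} (a : Z ⟶ X i) (k : Z ⟶ T) (h : a ≫ f i = k ≫ t) :
    Amb D t →+ Γ(Inv (mem D i) a, ⊤) :=
  (rm (mem D i) (pullback.lift a k h) (pullback.fst (f i) t) a (pullback.lift_fst _ _ _)).comp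
    (Pi.evalAddMonoidHom (fun i => Γ(Inv (mem D i) (pullback.fst (f i) t), ⊤)) i)

lemma ev_apply {Z : Scheme.{u}} {i : ι} (a : Z ⟶ X i) (k : Z ⟶ T) (h : a ≫ f i = k ≫ t) (x : Amb D t) :
    ev D t a k h x =
      rm (mem D i) (pullback.lift a k h) (pullback.fst (f i) t) a (pullback.lift_fst _ _ _) (x i) := rfl

lemma rm_ev {Z Z' : Scheme.{u}} (g : Z' ⟶ Z) {i : ι} (a : Z ⟶ X i) (k : Z ⟶ T) (h : a ≫ f i = k ≫ t)
    (a' : Z' ⟶ X i) (k' : Z' ⟶ T) (ea : g ≫ a = a') (ek : g ≫ k = k') (x : Amb D t) :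
    rm (mem D i) g a a' ea (ev D t a k h x) =
      ev D t a' k' (by rw [← ea, ← ek, Category.assoc, Category.assoc, h]) x := by
  refine rm_rm' (mem D i) ?_ _ _ (x i)
  ext <;> simp [ea, ek]

lemma ev_self (i : ι) (x : Amb D t) :
    ev D t (pullback.fst (f i) t) (pullback.snd (f i) t) pullback.condition x = x i := by
  refine (σ_congr (mem D i) _ _ _ _ (g' := 𝟙 _) (by ext <;> simp) ⊤ le_rfl le_rfl (x i)).trans ?_
  exact rm_id (mem D i) _ _

/-- The compatible families. -/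
def secGroup : AddSubgroup (Amb D t) where
  carrier := {x | ∀ (Z : Scheme.{u}) (i j : ι) (a : Z ⟶ X i) (b : Z ⟶ X j) (k : Z ⟶ T)
    (ha : a ≫ f i = k ≫ t) (hb : b ≫ f j = k ≫ t), τ D (k ≫ t) a b ha hb (ev D t a k ha x) = ev D t b k hb x}
  zero_mem' Z i j a b k ha hb := by simp only [map_zero]
  add_mem' {x y} hx hy Z i j a b k ha hb := by
    simp only [map_add]
    rw [hx Z i j a b k ha hb, hy Z i j a b k ha hb]
  neg_mem' {x} hx Z i j a b k ha hb := by
    simp only [map_neg]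
    rw [hx Z i j a b k ha hb]

/-- The compatible families over a scheme over the base. -/
abbrev Sec : Type u := ↥(secGroup D t)

/-- The value of a compatible family. -/
abbrev evS {Z : Scheme.{u}} {i : ι} (a : Z ⟶ X i) (k : Z ⟶ T) (h : a ≫ f i = k ≫ t) :
    Sec D t →+ Γ(Inv (mem D i) a, ⊤) :=
  (ev D t a k h).comp (secGroup D t).subtype

lemma τ_evS {Z : Scheme.{u}} {i j : ι} (a : Z ⟶ X i) (b : Z ⟶ X j) (k : Z ⟶ T) (q : Z ⟶ S)
    (ha : a ≫ f i = q) (hb : b ≫ f j = q) (hq : q = k ≫ t) (x : Sec D t) :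
    τ D q a b ha hb (evS D t a k (ha.trans hq) x) = evS D t b k (hb.trans hq) x := by
  subst hq
  exact x.2 Z i j a b k ha hb

variable {D t}

lemma Sec.ext' {x y : Sec D t}
    (h : ∀ (Z : Scheme.{u}) (i : ι) (a : Z ⟶ X i) (k : Z ⟶ T) (e : a ≫ f i = k ≫ t),
      evS D t a k e x = evS D t a k e y) : x = y := by
  refine Subtype.ext (funext fun i => ?_)
  rw [← ev_self D t i x.1, ← ev_self D t i y.1]
  exact h _ i _ _ _

section Mk

variable (w : ∀ (Z : Scheme.{u}) (i : ι) (a : Z ⟶ X i) (k : Z ⟶ T), a ≫ f i = k ≫ t → Γ(Inv (mem D i) a, ⊤))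
  (hn : ∀ (Z Z' : Scheme.{u}) (g : Z' ⟶ Z) (i : ι) (a : Z ⟶ X i) (k : Z ⟶ T) (h : a ≫ f i = k ≫ t)
    (a' : Z' ⟶ X i) (k' : Z' ⟶ T) (ea : g ≫ a = a') (_ : g ≫ k = k') (h' : a' ≫ f i = k' ≫ t),
    rm (mem D i) g a a' ea (w Z i a k h) = w Z' i a' k' h')
  (hc : ∀ (Z : Scheme.{u}) (i j : ι) (a : Z ⟶ X i) (b : Z ⟶ X j) (k : Z ⟶ T) (ha : a ≫ f i = k ≫ t)
    (hb : b ≫ f j = k ≫ t), τ D (k ≫ t) a b ha hb (w Z i a k ha) = w Z j b k hb)

/-- The compatible family with given values. -/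
def mkSec : Sec D t :=
  ⟨fun i => w _ i (pullback.fst (f i) t) (pullback.snd (f i) t) pullback.condition, fun Z i j a b k ha hb => by
    rw [ev_apply, ev_apply, hn _ _ _ i _ _ _ a k _ (pullback.lift_snd _ _ _) ha,
      hn _ _ _ j _ _ _ b k _ (pullback.lift_snd _ _ _) hb]
    exact hc Z i j a b k ha hb⟩

lemma evS_mkSec {Z : Scheme.{u}} {i : ι} (a : Z ⟶ X i) (k : Z ⟶ T) (h : a ≫ f i = k ≫ t) :
    evS D t a k h (mkSec w hn hc) = w Z i a k h :=
  hn _ _ _ i _ _ _ a k _ (pullback.lift_snd _ _ _) h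

end Mk

instance : SMul Γ(T, ⊤) (Sec D t) where
  smul r x := mkSec (fun Z i a k h => k.appTop r • evS D t a k h x)
    (fun Z Z' g i a k h a' k' ea ek h' => by
      subst ek
      rw [rm_smul, Scheme.Hom.comp_appTop]
      exact congrArg _ (rm_ev D t g a k h a' (g ≫ k) ea rfl x.1))
    (fun Z i j a b k ha hb => by rw [τ_smul, τ_evS D t a b k _ ha hb rfl x])

lemma evS_smul {Z : Scheme.{u}} {i : ι} (a : Z ⟶ X i) (k : Z ⟶ T) (h : a ≫ f i = k ≫ t) (r : Γ(T, ⊤))
    (x : Sec D t) : evS D t a k h (r • x) = k.appTop r • evS D t a k h x :=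
  evS_mkSec _ _ _ a k h

instance : Module Γ(T, ⊤) (Sec D t) where
  one_smul x := Sec.ext' fun Z i a k h => by rw [evS_smul, map_one, one_smul]
  mul_smul r s x := Sec.ext' fun Z i a k h => by rw [evS_smul, evS_smul, evS_smul, map_mul, mul_smul]
  smul_zero r := Sec.ext' fun Z i a k h => by rw [evS_smul, map_zero, smul_zero]
  smul_add r x y := Sec.ext' fun Z i a k h => by rw [evS_smul, map_add, map_add, smul_add, evS_smul, evS_smul]
  add_smul r s x := Sec.ext' fun Z i a k h => by rw [evS_smul, map_add, add_smul, map_add, evS_smul, evS_smul]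
  zero_smul x := Sec.ext' fun Z i a k h => by rw [evS_smul, map_zero, zero_smul, map_zero]

section Res

variable {T' : Scheme.{u}} (g : T' ⟶ T) (t' : T' ⟶ S) (e : g ≫ t = t')

/-- Restriction of compatible families. -/
def res : Sec D t →+ Sec D t' :=
  AddMonoidHom.mk' (fun x => mkSec
    (fun Z i a k h => evS D t a (k ≫ g) (by rw [h, ← e, Category.assoc]) x)
    (fun Z Z' c i a k h a' k' ea ek h' => rm_ev D t c a (k ≫ g) _ a' (k' ≫ g) ea (by rw [← ek, Category.assoc]) x.1)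
    (fun Z i j a b k ha hb => τ_evS D t a b (k ≫ g) _ ha hb (by rw [← e, Category.assoc]) x))
    fun x y => Sec.ext' fun Z i a k h => by rw [map_add, evS_mkSec, evS_mkSec, evS_mkSec, map_add]

lemma evS_res {Z : Scheme.{u}} {i : ι} (a : Z ⟶ X i) (k : Z ⟶ T') (h : a ≫ f i = k ≫ t') (x : Sec D t) :
    evS D t' a k h (res g t' e x) = evS D t a (k ≫ g) (by rw [h, ← e, Category.assoc]) x :=
  evS_mkSec _ _ _ a k h

lemma res_smul (r : Γ(T, ⊤)) (x : Sec D t) : res g t' e (r • x) = g.appTop r • res g t' e x :=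
  Sec.ext' fun Z i a k h => by
    rw [evS_res, evS_smul, evS_smul, evS_res, Scheme.Hom.comp_appTop]
    rfl

lemma evS_congr {Z : Scheme.{u}} {i : ι} {a : Z ⟶ X i} {k k' : Z ⟶ T} (hk : k = k') (h : a ≫ f i = k ≫ t)
    (x : Sec D t) : evS D t a k h x = evS D t a k' (hk ▸ h) x := by subst hk; rfl

lemma res_res {T'' : Scheme.{u}} (g' : T'' ⟶ T') (t'' : T'' ⟶ S) (e' : g' ≫ t' = t'') (g'' : T'' ⟶ T)
    (eg : g' ≫ g = g'') (x : Sec D t) :
    res g' t'' e' (res g t' e x) = res g'' t'' (by rw [← eg, Category.assoc, e, e']) x :=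
  Sec.ext' fun Z i a k h => by
    rw [evS_res, evS_res, evS_res]
    exact evS_congr (by rw [Category.assoc, eg]) _ _

lemma res_id (x : Sec D t) : res (𝟙 T) t (Category.id_comp t) x = x :=
  Sec.ext' fun Z i a k h => by
    rw [evS_res]
    exact evS_congr (Category.comp_id k) _ _

end Res

section Eval

variable {i₀ : ι} (s : T ⟶ X i₀) (hs : s ≫ f i₀ = t)

/-- Evaluation at a lift of the structure morphism. -/
abbrev evalAt : Sec D t →+ Γ(Inv (mem D i₀) s, ⊤) :=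
  evS D t s (𝟙 T) (hs.trans (Category.id_comp t).symm)

lemma evalAt_smul (r : Γ(T, ⊤)) (x : Sec D t) : evalAt s hs (r • x) = r • evalAt s hs x := by
  rw [evalAt, evS_smul, Scheme.Hom.id_appTop]
  rfl

lemma bijective_evalAt : Function.Bijective (evalAt (D := D) s hs) := by
  have key : ∀ (x : Sec D t) (Z : Scheme.{u}) (i : ι) (a : Z ⟶ X i) (k : Z ⟶ T) (h : a ≫ f i = k ≫ t),
      evS D t a k h x = τ D (k ≫ t) (k ≫ s) a (by rw [Category.assoc, hs]) h
        (rm (mem D i₀) k s (k ≫ s) rfl (evalAt s hs x)) := by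
    intro x Z i a k h
    rw [show rm (mem D i₀) k s (k ≫ s) rfl (evalAt s hs x) = evS D t (k ≫ s) k _ x from
      rm_ev D t k s (𝟙 T) _ (k ≫ s) k rfl (Category.comp_id k) x.1]
    exact (τ_evS D t (k ≫ s) a k _ _ h rfl x).symm
  refine ⟨fun x y e => Sec.ext' fun Z i a k h => by rw [key x, key y, e], fun y => ?_⟩
  refine ⟨mkSec (fun Z i a k h =>
    τ D (k ≫ t) (k ≫ s) a (by rw [Category.assoc, hs]) h (rm (mem D i₀) k s (k ≫ s) rfl y)) ?_ ?_, ?_⟩
  · intro Z Z' g i a k h a' k' ea ek h'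
    subst ek
    rw [rm_τ D g (k ≫ t) ((g ≫ k) ≫ t) (Category.assoc _ _ _).symm (k ≫ s) a _ h ((g ≫ k) ≫ s) a'
      (Category.assoc _ _ _).symm ea, rm_rm' (mem D i₀) rfl rfl]
  · intro Z i j a b k ha hb
    rw [τ_τ]
  · rw [evalAt, evS_mkSec]
    have h1 : rm (mem D i₀) (𝟙 T) s (𝟙 T ≫ s) rfl y = rm (mem D i₀) (𝟙 T) s (𝟙 T ≫ s) rfl y := rfl
    clear h1
    have gen : ∀ (q : T ⟶ S) (s' : T ⟶ X i₀) (hs' : 𝟙 T ≫ s = s') (hq : s' ≫ f i₀ = q) (hq' : s ≫ f i₀ = q),
        s' = s → τ D q s' s hq hq' (rm (mem D i₀) (𝟙 T) s s' hs' y) = y := by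
      intro q s' hs' hq hq' e'
      subst e'
      rw [τ_self, rm_id]
    exact gen _ _ rfl _ _ (Category.id_comp s)

lemma rm_evalAt {T' : Scheme.{u}} (g : T' ⟶ T) (t' : T' ⟶ S) (e : g ≫ t = t') (s' : T' ⟶ X i₀)
    (es : g ≫ s = s') (x : Sec D t) :
    rm (mem D i₀) g s s' es (evalAt s hs x) =
      evalAt s' (by rw [← es, Category.assoc, hs, e]) (res g t' e x) := by
  rw [evalAt, evalAt, evS_res]
  refine (rm_ev D t g s (𝟙 T) _ s' (g ≫ 𝟙 T) es rfl x.1).trans ?_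
  exact evS_congr (by rw [Category.comp_id, Category.id_comp]) _ x

end Eval

section Sheaf

variable [∀ i, (mem D i).IsQuasicoherent] {κ : Type*} (V : κ → Scheme.{u}) (h : ∀ l, V l ⟶ T)
  (hcov : Sieve.ofArrows V h ∈ Scheme.fpqcTopology T)

include hcov in
/-- Compatible families agree if their restrictions to a covering do. -/
theorem Sec.eq_of_cover {x y : Sec D t}
    (he : ∀ l, res (h l) (h l ≫ t) rfl x = res (h l) (h l ≫ t) rfl y) : x = y := by
  refine Sec.ext' fun Z i a k ha => ?_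
  have hp : (⟨a, evS D t a k ha x⟩ : Pair (mem D i) Z) = ⟨a, evS D t a k ha y⟩ := by
    refine ((isSheaf_fpqc_pairs (mem D i)).isSeparated _ (Scheme.fpqcTopology.pullback_stable k hcov)).ext
      fun W g hg => Pair.ext' (mem D i) rfl ?_
    obtain ⟨l, m, hm⟩ := (Sieve.mem_ofArrows_iff V h _).1 hg
    have key : ∀ z : Sec D t, rm (mem D i) g a (g ≫ a) rfl (evS D t a k ha z) =
        evS D (h l ≫ t) (g ≫ a) m (by rw [Category.assoc, ha, reassoc_of% hm]) (res (h l) (h l ≫ t) rfl z) :=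
      fun z => by
        rw [evS_res]
        exact rm_ev D t g a k ha (g ≫ a) (m ≫ h l) rfl hm z.1
    exact (rm_id _ _ _).trans ((key x).trans ((congrArg _ (he l)).trans (key y).symm))
  have h2 := Pair.rm_x_of_eq (mem D i) hp (𝟙 Z) a (Category.id_comp a)
  exact (rm_id _ _ _).symm.trans (h2.trans (rm_id _ _ _))

include hcov in
/-- Compatible families on a covering glue. -/
theorem Sec.exists_glue (y : ∀ l, Sec D (h l ≫ t))
    (hy : ∀ (l m : κ) (W : Scheme.{u}) (p : W ⟶ V l) (p' : W ⟶ V m) (w : W ⟶ S) (hp : p ≫ h l ≫ t = w)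
      (hp' : p' ≫ h m ≫ t = w), p ≫ h l = p' ≫ h m → res p w hp (y l) = res p' w hp' (y m)) :
    ∃ x : Sec D t, ∀ l, res (h l) (h l ≫ t) rfl x = y l := by
  have hwd : ∀ {W : Scheme.{u}} {i : ι} (a : W ⟶ X i) (l l' : κ) (m : W ⟶ V l) (m' : W ⟶ V l')
      (ha : a ≫ f i = m ≫ h l ≫ t) (ha' : a ≫ f i = m' ≫ h l' ≫ t), m ≫ h l = m' ≫ h l' →
      evS D _ a m ha (y l) = evS D _ a m' ha' (y l') := by
    intro W i a l l' m m' ha ha' e
    have := congrArg (evS D (a ≫ f i) a (𝟙 W) (Category.id_comp _).symm)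
      (hy l l' W m m' (a ≫ f i) ha.symm ha'.symm e)
    rw [evS_res, evS_res] at this
    rw [evS_congr (Category.id_comp m).symm ha, evS_congr (Category.id_comp m').symm ha']
    exact this
  have key : ∀ (Z : Scheme.{u}) (i : ι) (a : Z ⟶ X i) (k : Z ⟶ T) (ha : a ≫ f i = k ≫ t),
      ∃! v : Γ(Inv (mem D i) a, ⊤), ∀ (W : Scheme.{u}) (g : W ⟶ Z) (l : κ) (m : W ⟶ V l) (e : g ≫ k = m ≫ h l),
        rm (mem D i) g a (g ≫ a) rfl v = evS D _ (g ≫ a) m (by rw [Category.assoc, ha, reassoc_of% e]) (y l) := by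
    intro Z i a k ha
    classical
    have hR := Scheme.fpqcTopology.pullback_stable k hcov
    let R := (Sieve.ofArrows V h).pullback k
    have ex : ∀ {W : Scheme.{u}} {g : W ⟶ Z}, R g → ∃ (l : κ) (m : W ⟶ V l), g ≫ k = m ≫ h l :=
      fun hg => (Sieve.mem_ofArrows_iff V h _).1 hg
    choose lc mc hmc using @ex
    let z : Presieve.FamilyOfElements (pairs (mem D i)) R.arrows := fun W g hg =>
      ⟨g ≫ a, evS D _ (g ≫ a) (mc hg) (by rw [Category.assoc, ha, reassoc_of% (hmc hg)]) (y (lc hg))⟩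
    have hz : z.SieveCompatible := by
      intro W W' g g' hg
      refine Pair.ext' (mem D i) (Category.assoc g' g a) ?_
      let hg' : R (g' ≫ g) := R.downward_closed hg g'
      have e1 : ∀ q, evS D (h (lc hg') ≫ t) (g' ≫ g ≫ a) (mc hg') q (y (lc hg')) =
          evS D (h (lc hg) ≫ t) (g' ≫ g ≫ a) (g' ≫ mc hg)
            (by rw [Category.assoc, Category.assoc, Category.assoc, ha, reassoc_of% (hmc hg)]) (y (lc hg)) :=
        fun q => hwd _ _ _ _ _ _ _ (by rw [Category.assoc, ← hmc hg, ← hmc hg', Category.assoc])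
      change rm (mem D i) (𝟙 W') ((g' ≫ g) ≫ a) (g' ≫ g ≫ a) _ (ev D _ _ _ _ (y (lc hg')).1) =
        rm (mem D i) g' (g ≫ a) (g' ≫ g ≫ a) rfl (ev D _ _ _ _ (y (lc hg)).1)
      rw [rm_ev D _ g' (g ≫ a) (mc hg) _ (g' ≫ g ≫ a) (g' ≫ mc hg) rfl rfl]
      exact (rm_ev D _ (𝟙 W') _ (mc hg') _ (g' ≫ g ≫ a) (mc hg') _ (Category.id_comp _) (y _).1).trans (e1 _)
    obtain ⟨⟨p, v⟩, hv, huniq⟩ := isSheaf_fpqc_pairs (mem D i) R hR z
      (Presieve.compatible_iff_sieveCompatible z |>.2 hz)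
    obtain rfl : p = a := ((GrothendieckTopology.Subcanonical.isSheaf_of_isRepresentable
      (J := Scheme.fpqcTopology) (yoneda.obj (X i))).isSeparated R hR).ext fun W g hg => congrArg Pair.p (hv g hg)
    have hval : ∀ (W : Scheme.{u}) (g : W ⟶ Z) (hg : R g), rm (mem D i) g p (g ≫ p) rfl v = (z g hg).x :=
      fun W g hg => by
        have h2 := Pair.rm_x_of_eq (mem D i) (hv g hg) (𝟙 W) (g ≫ p) (Category.id_comp _)
        exact (rm_id _ _ _).symm.trans (h2.trans (rm_id _ _ _))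
    refine ⟨v, fun W g l m e => ?_, fun v' hv' => ?_⟩
    · have hg : R g := (Sieve.mem_ofArrows_iff V h _).2 ⟨l, m, e⟩
      exact (hval W g hg).trans (hwd _ _ _ _ _ _ _ ((hmc hg).symm.trans e))
    · have h3 := huniq ⟨p, v'⟩ fun W g hg => Pair.ext' (mem D i) rfl
        ((rm_id _ _ _).trans (hv' W g _ _ (hmc hg)))
      have h4 := Pair.rm_x_of_eq (mem D i) h3 (𝟙 Z) p (Category.id_comp p)
      exact (rm_id _ _ _).symm.trans (h4.trans (rm_id _ _ _))
  choose v hv huniq using key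
  refine ⟨mkSec v ?_ ?_, fun l => Sec.ext' fun Z i a k ha => ?_⟩
  · intro Z Z' g i a k ha a' k' ea ek ha'
    refine huniq Z' i a' k' ha' _ fun W c l m e => ?_
    have e' : (c ≫ g) ≫ k = m ≫ h l := by rw [Category.assoc, ek, e]
    have := congrArg (rm (mem D i) (𝟙 W) ((c ≫ g) ≫ a) (c ≫ a')
      (by rw [Category.id_comp, Category.assoc, ea])) (hv Z i a k ha W (c ≫ g) l m e')
    rw [rm_rm' (mem D i) (Category.id_comp (c ≫ g)),
      show ∀ p q, rm (mem D i) (𝟙 W) ((c ≫ g) ≫ a) (c ≫ a') p (evS D _ ((c ≫ g) ≫ a) m q (y l)) = _ from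
        fun p q => rm_ev D _ (𝟙 W) _ m q (c ≫ a') m p (Category.id_comp m) (y l).1] at this
    rw [rm_rm' (mem D i) rfl ea]
    exact this
  · intro Z i j a b k ha hb
    refine huniq Z j b k hb _ fun W g l m e => ?_
    rw [rm_τ D g (k ≫ t) (g ≫ k ≫ t) rfl a b ha hb (g ≫ a) (g ≫ b) rfl rfl, hv Z i a k ha W g l m e]
    exact τ_evS D _ (g ≫ a) (g ≫ b) m _ _ _ (by rw [reassoc_of% e]) (y l)
  · rw [evS_res, evS_mkSec]
    have h1 := hv Z i a (k ≫ h l) (by rw [ha, Category.assoc]) Z (𝟙 Z) l k (Category.id_comp _)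
    have h2 := congrArg (rm (mem D i) (𝟙 Z) (𝟙 Z ≫ a) a (by rw [Category.id_comp, Category.id_comp])) h1
    rw [rm_rm' (mem D i) (Category.id_comp (𝟙 Z)), rm_id,
      show ∀ p q, rm (mem D i) (𝟙 Z) (𝟙 Z ≫ a) a p (evS D _ (𝟙 Z ≫ a) k q (y l)) = _ from
        fun p q => rm_ev D _ (𝟙 Z) _ k q a k p (Category.id_comp k) (y l).1] at h2
    exact h2

end Sheaf

end Groth.Agent.H13Desc.EffD
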