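import Groth.Agent.H13Desc.EtAssocSheaf.DescentHom

/-!
# Gluing maps of a descent datum of modules, on sections
-/

set_option autoImplicit false
set_option linter.style.haveILetI false
set_option backward.isDefEq.respectTransparency false
set_option backward.isDefEq.respectTransparency.types false

universe u

open CategoryTheory CategoryTheory.Limits AlgebraicGeometry Opposite TopologicalSpace

noncomputable section

namespace Groth.Agent.H13Desc.EffD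

open EtSh Groth.Agent.H17.PullSect

/-- Morphisms between inverse images from different bases commute with restriction, after conjugation. -/
lemma rm_hom {S S' U V : Scheme.{u}} {M : S.Modules} {N : S'.Modules} (g : V ⟶ U) (u : U ⟶ S) (v : V ⟶ S)
    (e : g ≫ u = v) (w : U ⟶ S') (z : V ⟶ S') (e' : g ≫ w = z) (φ : Inv M u ⟶ Inv N w) (x : Γ(Inv M u, ⊤)) :
    rm N g w z e' (φ.app ⊤ x) =
      (inv (tr M g u v e) ≫ (Scheme.Modules.pullback g).map φ ≫ tr N g w z e').app ⊤ (rm M g u v e x) := by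
  have h : (⊤ : V.Opens) ≤ g ⁻¹ᵁ ⊤ := le_rfl
  rw [σ_apply, σ_apply, pullSect_natural]
  let y := OmegaSh.pullSect g (Inv M u) ⊤ x
  have n' : ((Scheme.Modules.pullback g).obj (Inv N w)).presheaf.map (homOfLE h).op
      (((Scheme.Modules.pullback g).map φ).app (g ⁻¹ᵁ ⊤) y) =
      ((Scheme.Modules.pullback g).map φ).app ⊤
        (((Scheme.Modules.pullback g).obj (Inv M u)).presheaf.map (homOfLE h).op y) :=
    congr($((Scheme.Modules.Hom.mapPresheaf ((Scheme.Modules.pullback g).map φ)).naturality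
      (homOfLE h).op) y).symm
  rw [n']
  change ((Scheme.Modules.pullback g).map φ ≫ tr N g w z e').app ⊤ _ =
    (tr M g u v e ≫ inv (tr M g u v e) ≫ (Scheme.Modules.pullback g).map φ ≫ tr N g w z e').app ⊤ _
  rw [IsIso.hom_inv_id_assoc]

variable {ι : Type u} {S : Scheme.{u}} {X : ι → Scheme.{u}} {f : ∀ i, X i ⟶ S}
  (D : Desc.modPF.{u}.DescentData f)

/-- The members of a descent datum. -/
abbrev mem (i : ι) : (X i).Modules := D.obj i

/-- The gluing morphisms. -/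
abbrev phi {Z : Scheme.{u}} (q : Z ⟶ S) {i j : ι} (a : Z ⟶ X i) (b : Z ⟶ X j) (ha : a ≫ f i = q)
    (hb : b ≫ f j = q) : Inv (mem D i) a ⟶ Inv (mem D j) b :=
  D.hom q a b ha hb

lemma phi_pull {Z Z' : Scheme.{u}} (g : Z' ⟶ Z) (q : Z ⟶ S) (q' : Z' ⟶ S) (hq : g ≫ q = q') {i j : ι}
    (a : Z ⟶ X i) (b : Z ⟶ X j) (ha : a ≫ f i = q) (hb : b ≫ f j = q) (a' : Z' ⟶ X i) (b' : Z' ⟶ X j)
    (ea : g ≫ a = a') (eb : g ≫ b = b') :
    inv (tr (mem D i) g a a' ea) ≫ (Scheme.Modules.pullback g).map (phi D q a b ha hb) ≫ tr (mem D j) g b b' eb =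
      phi D q' a' b' (by rw [← ea, Category.assoc, ha, hq]) (by rw [← eb, Category.assoc, hb, hq]) := by
  have pa : a.op.toLoc ≫ g.op.toLoc = a'.op.toLoc := by rw [← ea]; rfl
  have pb : b.op.toLoc ≫ g.op.toLoc = b'.op.toLoc := by rw [← eb]; rfl
  rw [← mapComp'_hom_app (mem D i) g a a' ea pa, ← mapComp'_inv_app (mem D j) g b b' eb pb]
  exact D.pullHom_hom g q q' hq a b ha hb a' b' ea eb

/-- The gluing maps on sections. -/
irreducible_def τ {Z : Scheme.{u}} (q : Z ⟶ S) {i j : ι} (a : Z ⟶ X i) (b : Z ⟶ X j) (ha : a ≫ f i = q)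
    (hb : b ≫ f j = q) : Γ(Inv (mem D i) a, ⊤) →+ Γ(Inv (mem D j) b, ⊤) :=
  ((phi D q a b ha hb).app ⊤).hom

lemma τ_apply {Z : Scheme.{u}} (q : Z ⟶ S) {i j : ι} (a : Z ⟶ X i) (b : Z ⟶ X j) (ha : a ≫ f i = q)
    (hb : b ≫ f j = q) (x : Γ(Inv (mem D i) a, ⊤)) : τ D q a b ha hb x = (phi D q a b ha hb).app ⊤ x := by
  rw [τ_def]

lemma τ_smul {Z : Scheme.{u}} (q : Z ⟶ S) {i j : ι} (a : Z ⟶ X i) (b : Z ⟶ X j) (ha : a ≫ f i = q)
    (hb : b ≫ f j = q) (r : Γ(Z, ⊤)) (x : Γ(Inv (mem D i) a, ⊤)) :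
    τ D q a b ha hb (r • x) = r • τ D q a b ha hb x := by
  rw [τ_apply, τ_apply, Scheme.Modules.Hom.app_smul]

lemma τ_self {Z : Scheme.{u}} (q : Z ⟶ S) {i : ι} (a : Z ⟶ X i) (ha : a ≫ f i = q)
    (x : Γ(Inv (mem D i) a, ⊤)) : τ D q a a ha ha x = x := by
  rw [τ_apply, show phi D q a a ha ha = 𝟙 _ from D.hom_self q a ha]
  rfl

lemma τ_τ {Z : Scheme.{u}} (q : Z ⟶ S) {i j l : ι} (a : Z ⟶ X i) (b : Z ⟶ X j) (c : Z ⟶ X l)
    (ha : a ≫ f i = q) (hb : b ≫ f j = q) (hc : c ≫ f l = q) (x : Γ(Inv (mem D i) a, ⊤)) :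
    τ D q b c hb hc (τ D q a b ha hb x) = τ D q a c ha hc x := by
  rw [τ_apply, τ_apply, τ_apply]
  exact congr($(congrArg (fun φ => Scheme.Modules.Hom.app φ (⊤ : Z.Opens))
    (D.hom_comp q a b c ha hb hc)) x)

lemma rm_τ {Z Z' : Scheme.{u}} (g : Z' ⟶ Z) (q : Z ⟶ S) (q' : Z' ⟶ S) (hq : g ≫ q = q') {i j : ι}
    (a : Z ⟶ X i) (b : Z ⟶ X j) (ha : a ≫ f i = q) (hb : b ≫ f j = q) (a' : Z' ⟶ X i) (b' : Z' ⟶ X j)
    (ea : g ≫ a = a') (eb : g ≫ b = b') (x : Γ(Inv (mem D i) a, ⊤)) :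
    rm (mem D j) g b b' eb (τ D q a b ha hb x) =
      τ D q' a' b' (by rw [← ea, Category.assoc, ha, hq]) (by rw [← eb, Category.assoc, hb, hq])
        (rm (mem D i) g a a' ea x) := by
  rw [τ_apply, τ_apply, rm_hom g a a' ea b b' eb, phi_pull D g q q' hq]

end Groth.Agent.H13Desc.EffD
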