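import Groth.Agent.H13Desc.EffDescent.Mod

/-!
# The counit from the module of compatible families
-/

set_option autoImplicit false
set_option linter.style.haveILetI false
set_option backward.isDefEq.respectTransparency false
set_option backward.isDefEq.respectTransparency.types false

universe u

open CategoryTheory CategoryTheory.Limits AlgebraicGeometry Opposite TopologicalSpace

noncomputable section

namespace Groth.Agent.H13Desc.EffD

open EtSh H14QCoh Groth.Agent.H17.PullSect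

variable {ι : Type u} {S : Scheme.{u}} {X : ι → Scheme.{u}} {f : ∀ i, X i ⟶ S}
  (D : Desc.modPF.{u}.DescentData f) [∀ i, (mem D i).IsQuasicoherent] (i : ι)

lemma pre_fac (W : S.Opens) : (f i ⁻¹ᵁ W).ι ≫ f i = (f i ∣_ W) ≫ W.ι := (morphismRestrict_ι (f i) W).symm

/-- The value of a compatible family on the preimage of an open. -/
irreducible_def val (W : S.Opens) (x : Sec D W.ι) : Γ(mem D i, f i ⁻¹ᵁ W) :=
  (Equiv.ofBijective _ (bijective_pm (mem D i) (f i ⁻¹ᵁ W))).symm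
    (evS D W.ι (f i ⁻¹ᵁ W).ι (f i ∣_ W) (pre_fac i W) x)

lemma pm_val' (W : S.Opens) (x : Sec D W.ι) :
    pm (mem D i) (f i ⁻¹ᵁ W).ι (f i ⁻¹ᵁ W) (fun z _ => z.2) (val D i W x) =
      evS D W.ι (f i ⁻¹ᵁ W).ι (f i ∣_ W) (pre_fac i W) x := by
  rw [val_def]
  exact Equiv.apply_symm_apply (Equiv.ofBijective _ (bijective_pm (mem D i) (f i ⁻¹ᵁ W))) _

lemma pm_val (W : S.Opens) (x : Sec D W.ι) {Z : Scheme.{u}} (a : Z ⟶ X i) (k : Z ⟶ W.toScheme)
    (h : a ≫ f i = k ≫ W.ι) (hle : (⊤ : Z.Opens) ≤ a ⁻¹ᵁ (f i ⁻¹ᵁ W)) :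
    pm (mem D i) a (f i ⁻¹ᵁ W) hle (val D i W x) = evS D W.ι a k h x := by
  let l : Z ⟶ (f i ⁻¹ᵁ W).toScheme := IsOpenImmersion.lift (f i ⁻¹ᵁ W).ι a (by
    rw [Scheme.Opens.range_ι]
    rintro _ ⟨z, rfl⟩
    exact hle (x := z) trivial)
  have hl : l ≫ (f i ⁻¹ᵁ W).ι = a := IsOpenImmersion.lift_fac _ _ _
  rw [← σ_pm (mem D i) l (f i ⁻¹ᵁ W).ι a hl (f i ⁻¹ᵁ W) (fun z _ => z.2) hle, pm_val']
  refine rm_ev D W.ι l (f i ⁻¹ᵁ W).ι (f i ∣_ W) _ a k hl ?_ x.1
  rw [← cancel_mono W.ι, Category.assoc, ← pre_fac, reassoc_of% hl, h]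

lemma val_add (W : S.Opens) (x y : Sec D W.ι) : val D i W (x + y) = val D i W x + val D i W y :=
  (bijective_pm (mem D i) (f i ⁻¹ᵁ W)).1 (by simp only [map_add, pm_val'])

lemma val_zero (W : S.Opens) : val D i W 0 = 0 :=
  (bijective_pm (mem D i) (f i ⁻¹ᵁ W)).1 (by simp only [map_zero, pm_val'])

lemma val_res {W W' : S.Opens} (h : W' ≤ W) (x : Sec D W.ι) :
    val D i W' (resO D h x) = (mem D i).presheaf.map (homOfLE ((f i).preimage_mono h)).op (val D i W x) := by
  refine (bijective_pm (mem D i) (f i ⁻¹ᵁ W')).1 ?_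
  rw [pm_val', evS_res, pm_res]
  exact (pm_val D i W x _ _ _ _).symm

lemma appTop_ρ' {Z : Scheme.{u}} (W : S.Opens) (k : Z ⟶ W.toScheme) (q : Z ⟶ S) (e : k ≫ W.ι = q)
    (h : (⊤ : Z.Opens) ≤ q ⁻¹ᵁ W) (r : Γ(S, W)) : k.appTop (ρ W r) = q.appLE W ⊤ h r := by
  subst e
  change (W.ι.appLE W ⊤ (top_le_ι W) ≫ k.appTop) r = _
  rw [Scheme.Hom.appTop, Scheme.Hom.app_eq_appLE, Scheme.Hom.appLE_comp_appLE]
  rfl

lemma val_smul (W : S.Opens) (r : Γ(S, W)) (x : Sec D W.ι) :
    val D i W (ρ W r • x) = (f i).app W r • val D i W x := by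
  refine (bijective_pm (mem D i) (f i ⁻¹ᵁ W)).1 ?_
  rw [pm_val', evS_smul, pm_smul, pm_val', appTop_ρ' W _ _ (pre_fac i W).symm (fun z _ => z.2)]
  refine congrArg (· • _) ?_
  rw [Scheme.Hom.app_eq_appLE, ← CommRingCat.comp_apply, Scheme.Hom.appLE_comp_appLE]

/-- The adjoint of the counit. -/
def counit₀ : descMod D ⟶ (Scheme.Modules.pushforward (f i)).obj (mem D i) :=
  ⟨PresheafOfModules.homMk
    { app := fun W => AddCommGrpCat.ofHom
        { toFun := fun x => val D i W.unop x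
          map_zero' := val_zero D i W.unop
          map_add' := val_add D i W.unop }
      naturality := fun W W' g => AddCommGrpCat.ext fun x => val_res D i g.unop.le x }
    fun W r x => val_smul D i W.unop r x⟩

/-- The counit. -/
def counit : (Scheme.Modules.pullback (f i)).obj (descMod D) ⟶ mem D i :=
  ((Scheme.Modules.pullbackPushforwardAdjunction (f i)).homEquiv _ _).symm (counit₀ D i)

lemma counit_pullSect (W : S.Opens) (x : Sec D W.ι) :
    (counit D i).app (f i ⁻¹ᵁ W) (OmegaSh.pullSect (f i) (descMod D) W x) = val D i W x := by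
  have h : (Scheme.Modules.pullbackPushforwardAdjunction (f i)).unit.app (descMod D) ≫
      (Scheme.Modules.pushforward (f i)).map (counit D i) = counit₀ D i :=
    ((Scheme.Modules.pullbackPushforwardAdjunction (f i)).homEquiv_unit _ _ (counit D i)).symm.trans
      (Equiv.apply_symm_apply _ _)
  exact congr($(congrArg (fun k => Scheme.Modules.Hom.app k W) h) x)

end Groth.Agent.H13Desc.EffD
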